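import Cfsg.Agent.Lib.Comp.We6.Main
import Cfsg.Agent.Lib.Fi.O6

set_option maxRecDepth 100000
set_option Elab.async false

namespace Cfsg.Lib.Comp.We6

universe u

open Cfsg.Lib.Fi

attribute [local instance high] sumDec

def del : List (O6) := [1,
 o6 (s6 (s6 1 0 0 0 0 0) (s6 0 1 0 0 0 0) (s6 0 0 1 0 0 0) (s6 0 0 0 1 0 0) (s6 0 0 0 0 1 1) (s6 0 0 0 0 0 1)) (s6 (s6 1 0 0 0 0 0) (s6 0 1 0 0 0 0) (s6 0 0 1 0 0 0) (s6 0 0 0 1 0 0) (s6 0 0 0 0 1 1) (s6 0 0 0 0 0 1)) (by decide +kernel),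
 o6 (s6 (s6 1 0 0 0 0 0) (s6 0 1 0 0 0 0) (s6 0 0 1 0 0 0) (s6 0 0 0 1 0 0) (s6 0 0 0 0 0 1) (s6 0 0 0 0 1 0)) (s6 (s6 1 0 0 0 0 0) (s6 0 1 0 0 0 0) (s6 0 0 1 0 0 0) (s6 0 0 0 1 0 0) (s6 0 0 0 0 0 1) (s6 0 0 0 0 1 0)) (by decide +kernel),
 o6 (s6 (s6 1 0 0 0 0 0) (s6 0 1 0 1 0 1) (s6 0 0 1 0 0 0) (s6 0 0 0 1 0 0) (s6 0 0 0 1 1 1) (s6 0 0 0 0 0 1)) (s6 (s6 1 0 0 0 0 0) (s6 0 1 0 1 0 1) (s6 0 0 1 0 0 0) (s6 0 0 0 1 0 0) (s6 0 0 0 1 1 1) (s6 0 0 0 0 0 1)) (by decide +kernel),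
 o6 (s6 (s6 1 0 0 0 0 0) (s6 1 1 0 1 0 1) (s6 1 0 1 1 0 1) (s6 0 0 0 1 0 0) (s6 1 0 0 1 1 1) (s6 0 0 0 0 0 1)) (s6 (s6 1 0 0 0 0 0) (s6 1 1 0 1 0 1) (s6 1 0 1 1 0 1) (s6 0 0 0 1 0 0) (s6 1 0 0 1 1 1) (s6 0 0 0 0 0 1)) (by decide +kernel),
 o6 (s6 (s6 1 0 0 0 0 0) (s6 0 1 0 0 0 0) (s6 0 0 1 0 0 0) (s6 0 1 0 1 1 1) (s6 0 1 0 0 0 1) (s6 0 1 0 0 1 0)) (s6 (s6 1 0 0 0 0 0) (s6 0 1 0 0 0 0) (s6 0 0 1 0 0 0) (s6 0 1 0 1 1 1) (s6 0 1 0 0 0 1) (s6 0 1 0 0 1 0)) (by decide +kernel),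
 o6 (s6 (s6 0 0 1 0 0 0) (s6 0 1 0 0 0 0) (s6 1 0 0 0 0 0) (s6 0 0 0 1 0 0) (s6 0 0 0 0 1 0) (s6 0 0 0 0 0 1)) (s6 (s6 0 0 1 0 0 0) (s6 0 1 0 0 0 0) (s6 1 0 0 0 0 0) (s6 0 0 0 1 0 0) (s6 0 0 0 0 1 0) (s6 0 0 0 0 0 1)) (by decide +kernel)]

noncomputable def lab : List ((I6 → ZMod 2)) := (apd [s6 1 0 0 0 0 0,
 s6 1 0 0 1 0 0,
 s6 0 0 0 1 0 0,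
 s6 1 1 0 0 0 0,
 s6 1 1 0 1 0 1,
 s6 1 1 0 1 1 0,
 s6 1 1 0 1 1 1,
 s6 0 1 0 0 0 0,
 s6 0 1 0 1 0 1,
 s6 0 1 0 1 1 0,
 s6 0 1 0 1 1 1,
 s6 0 0 1 0 0 0,
 s6 0 0 1 1 0 0,
 s6 1 0 1 0 0 1,
 s6 1 0 1 0 1 0,
 s6 1 0 1 0 1 1,
 s6 1 0 1 1 0 1,
 s6 1 0 1 1 1 0,
 s6 1 0 1 1 1 1,
 s6 1 1 1 1 0 0,
 s6 1 1 1 0 0 1,
 s6 1 1 1 0 1 0,
 s6 1 1 1 0 1 1,
 s6 0 1 1 0 0 0,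
 s6 0 1 1 1 0 1,
 s6 0 1 1 1 1 0,
 s6 0 1 1 1 1 1,
 s6 1 0 1 0 0 0,
 s6 1 0 1 1 0 0,
 s6 0 0 1 0 0 1,
 s6 0 0 1 0 1 1,
 s6 0 0 1 0 1 0,
 s6 0 0 1 1 0 1,
 s6 0 0 1 1 1 1,
 s6 0 0 1 1 1 0,
 s6 0 1 1 1 0 0,
 s6 0 1 1 0 0 1,
 s6 0 1 1 0 1 1,
 s6 0 1 1 0 1 0,
 s6 1 1 1 0 0 0]
 [s6 1 1 1 1 0 1,
 s6 1 1 1 1 1 1,
 s6 1 1 1 1 1 0,
 s6 0 1 0 1 0 0,
 s6 0 1 0 0 0 1,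
 s6 0 1 0 0 1 1,
 s6 0 1 0 0 1 0,
 s6 1 1 0 1 0 0,
 s6 1 1 0 0 0 1,
 s6 1 1 0 0 1 1,
 s6 1 1 0 0 1 0,
 s6 0 0 0 0 0 1,
 s6 0 0 0 0 1 0,
 s6 0 0 0 0 1 1,
 s6 0 0 0 1 0 1,
 s6 0 0 0 1 1 1,
 s6 0 0 0 1 1 0,
 s6 1 0 0 0 0 1,
 s6 1 0 0 0 1 1,
 s6 1 0 0 0 1 0,
 s6 1 0 0 1 0 1,
 s6 1 0 0 1 1 1,
 s6 1 0 0 1 1 0])

theorem iso : Nonempty (cl (gp nets) L ≃* O6) :=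
  RA.iso RA.o6 nets_ok fx (δ := nth 1 del) (lab := nth (s6 1 0 0 0 0 0) lab) (by decide +kernel) (by decide +kernel) (by decide +kernel) card
    card_O6 (by norm_num)

end Cfsg.Lib.Comp.We6
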