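import Cfsg.Agent.Lib.Comp.We6.Base

set_option maxRecDepth 100000
set_option Elab.async false

namespace Cfsg.Lib.Comp.We6

universe u

noncomputable def T0_R : List (List ℕ × ℕ) := [([1],1),
 ([2],1),
 ([1,2],2),
 ([3],1),
 ([1,3],1),
 ([2,3],2),
 ([4],1),
 ([1,4],1),
 ([3,4],1),
 ([2,4],2),
 ([5],1),
 ([2,5],1),
 ([3,5],1),
 ([4,5],1),
 ([1,5],2),
 ([6],1),
 ([1,6],1),
 ([2,6],1),
 ([3,6],1),
 ([5,6],1),
 ([4,6],2)]

noncomputable def T0_n_1 : Net :=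
 (Net.cons 4 (nat_lit 0x408)
 (Net.cons 2 (nat_lit 0x2000)
 (Net.cons 1 (nat_lit 0x1001450)
 (Net.cons 2 (nat_lit 0x12030)
 (Net.cons 4 (nat_lit 0x408)
 Net.nil)))))

noncomputable def T0_n_2 : Net :=
 (Net.cons 16 (nat_lit 0x8000)
 (Net.cons 8 (nat_lit 0x800040)
 (Net.cons 4 (nat_lit 0x80c0400)
 (Net.cons 2 (nat_lit 0x2000000)
 (Net.cons 1 (nat_lit 0x1000004)
 (Net.cons 2 (nat_lit 0x2120300)
 (Net.cons 4 (nat_lit 0x80c0400)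
 (Net.cons 8 (nat_lit 0x800040)
 (Net.cons 16 (nat_lit 0x8000)
 Net.nil)))))))))

noncomputable def T0_n_3 : Net :=
 (Net.cons 8 (nat_lit 0x80)
 (Net.cons 4 (nat_lit 0x808)
 (Net.cons 1 (nat_lit 0x500000)
 (Net.cons 2 (nat_lit 0x20230)
 (Net.cons 4 (nat_lit 0x808)
 (Net.cons 8 (nat_lit 0x80)
 Net.nil))))))

noncomputable def T0_n_4 : Net :=
 (Net.cons 4 (nat_lit 0x400)
 (Net.cons 2 (nat_lit 0x2002)
 (Net.cons 1 (nat_lit 0x1404)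
 (Net.cons 2 (nat_lit 0x303102)
 (Net.cons 4 (nat_lit 0x900)
 Net.nil)))))

noncomputable def T0_n_5 : Net :=
 (Net.cons 16 (nat_lit 0x2000)
 (Net.cons 8 (nat_lit 0x200040)
 (Net.cons 4 (nat_lit 0x20400)
 (Net.cons 2 (nat_lit 0x2000020)
 (Net.cons 1 (nat_lit 0x4010510)
 (Net.cons 2 (nat_lit 0x2001320)
 (Net.cons 4 (nat_lit 0x20400)
 (Net.cons 8 (nat_lit 0x200040)
 (Net.cons 16 (nat_lit 0x2000)
 Net.nil)))))))))

noncomputable def T0_n_6 : Net :=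
 (Net.cons 16 (nat_lit 0x9000)
 (Net.cons 8 (nat_lit 0x920000)
 (Net.cons 4 (nat_lit 0x2080400)
 (Net.cons 2 (nat_lit 0x2000)
 (Net.cons 1 (nat_lit 0x10044001)
 (Net.cons 2 (nat_lit 0x202000)
 (Net.cons 4 (nat_lit 0x2090400)
 (Net.cons 8 (nat_lit 0x920000)
 (Net.cons 16 (nat_lit 0x9000)
 Net.nil)))))))))

noncomputable def T0_n : List Net := [Net.nil,
 T0_n_1,
 T0_n_2,
 T0_n_3,
 T0_n_4,
 T0_n_5,
 T0_n_6]

theorem T0_n_ok : NetsOK 32 T0_n := netsOK_of (by decide +kernel)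

theorem T0_n_rel : Rels (gp T0_n) T0_R := rels_of_relsB (k := 5) T0_n_ok (by norm_num) (by decide +kernel)

theorem T0_fin : finB 32 T0_n [1,2,3,4,5,6] 27 (runH 32 T0_n (fun x p => ptInv (nth Net.nil T0_n x) p) iv T0_R [] ([1,2,3,4,5].map fun x => [x]) 0 []
  (apd [1,5,9,13,17,0,4,12,16,24,32,40,44,48,52,60,64,68,72,76,80,28,32,36,52,68,72,8,20,28,32,36,44,48,52,56,64,68,72,76,80,8,16,20,28,36,56,64,76,80,8,20,28,32,44,48,52,72,16,44]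
 [48,56,68,64,76])
  (defsH 32 T0_n (ones 224) [6,4,2,3,1,2,4,5,6,1,2,3,4,2,1,5] (Nat.shiftLeft 1 0) 0)) = true := by decide +kernel

theorem T0_idx : Idx.{u} iv (T0_R ++ []) ([1,2,3,4,5].map fun x => [x]) [1,2,3,4,5,6] 27 :=
  Reach.idx T0_n_ok (reach_runH T0_n_ok (fun x p _ => ptInv_gp T0_n_ok x p) T0_n_rel (reach_defsH T0_n_ok _ _ _ _ _ _) _ _) T0_fin (by norm_num)

end Cfsg.Lib.Comp.We6
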