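import Cfsg.Agent.Lib.Comp.We6.Base

set_option maxRecDepth 100000
set_option Elab.async false

namespace Cfsg.Lib.Comp.We6

universe u

noncomputable def nets_1 : Net :=
 (Net.cons 8 (nat_lit 0x80000000000000)
 (Net.cons 4 (nat_lit 0xe00000000000000)
 (Net.cons 2 (nat_lit 0x2222202220220)
 (Net.cons 1 (nat_lit 0x4514444444444440)
 (Net.cons 2 (nat_lit 0x302222202220220)
 (Net.cons 4 (nat_lit 0xe00000000000000)
 (Net.cons 8 (nat_lit 0x80000000000000)
 Net.nil)))))))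

noncomputable def nets_2 : Net :=
 (Net.cons 8 (nat_lit 0x5a000000000000)
 (Net.cons 4 (nat_lit 0xc00000000000000)
 (Net.cons 2 (nat_lit 0x2000000000002000)
 (Net.cons 1 (nat_lit 0x1000000001114110)
 (Net.cons 2 (nat_lit 0x2113111120002000)
 (Net.cons 4 (nat_lit 0xc00000000000000)
 (Net.cons 8 (nat_lit 0x5a000000000000)
 Net.nil)))))))

noncomputable def nets_3 : Net :=
 (Net.cons 32 (nat_lit 0xc4000000)
 (Net.cons 16 (nat_lit 0xc0000000c400)
 (Net.cons 8 (nat_lit 0xb800c000c00080)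
 (Net.cons 4 (nat_lit 0x208000808080808)
 (Net.cons 2 (nat_lit 0x2002222002200220)
 (Net.cons 1 (nat_lit 0x1101111001100110)
 (Net.cons 2 (nat_lit 0x2022222202220220)
 (Net.cons 4 (nat_lit 0x208090c080c0c08)
 (Net.cons 8 (nat_lit 0xb800c000c00080)
 (Net.cons 16 (nat_lit 0xc0000000c400)
 (Net.cons 32 (nat_lit 0xc4000000)
 Net.nil)))))))))))

noncomputable def nets_4 : Net :=
 (Net.cons 32 (nat_lit 0x8800000)
 (Net.cons 16 (nat_lit 0x890)
 (Net.cons 8 (nat_lit 0x28006800f80008)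
 (Net.cons 2 (nat_lit 0x2002020202020200)
 (Net.cons 1 (nat_lit 0x4011540154111100)
 (Net.cons 2 (nat_lit 0x2102320232020200)
 (Net.cons 4 (nat_lit 0x60006000008)
 (Net.cons 8 (nat_lit 0x28006800f80008)
 (Net.cons 16 (nat_lit 0x80100000890)
 (Net.cons 32 (nat_lit 0x8800000)
 Net.nil))))))))))

noncomputable def nets_5 : Net :=
 (Net.cons 32 (nat_lit 0xb0008000)
 (Net.cons 16 (nat_lit 0xf08000007000)
 (Net.cons 8 (nat_lit 0xc00c000400000)
 (Net.cons 4 (nat_lit 0x800060004000004)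
 (Net.cons 2 (nat_lit 0x202022000000002)
 (Net.cons 1 (nat_lit 0x4401141000040004)
 (Net.cons 2 (nat_lit 0x202022210102002)
 (Net.cons 4 (nat_lit 0x8000e0004000004)
 (Net.cons 8 (nat_lit 0x1c00c000600004)
 (Net.cons 16 (nat_lit 0xf08000007000)
 (Net.cons 32 (nat_lit 0xb0008000)
 Net.nil)))))))))))

noncomputable def nets_6 : Net :=
 (Net.cons 32 (nat_lit 0x86060060)
 (Net.cons 16 (nat_lit 0x7610000001e0)
 (Net.cons 8 (nat_lit 0x9000000098)
 (Net.cons 4 (nat_lit 0x2)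
 (Net.cons 2 (nat_lit 0x2)
 (Net.cons 1 (nat_lit 0x11)
 (Net.cons 2 (nat_lit 0x2)
 (Net.cons 4 (nat_lit 0x801060f06060902)
 (Net.cons 8 (nat_lit 0xf600000098)
 (Net.cons 16 (nat_lit 0x7610000001e0)
 (Net.cons 32 (nat_lit 0x86060060)
 Net.nil)))))))))))

noncomputable def nets : List Net := [Net.nil,
 nets_1,
 nets_2,
 nets_3,
 nets_4,
 nets_5,
 nets_6]

theorem nets_ok : NetsOK 64 nets := netsOK_of (by decide +kernel)

theorem nets_rel : Rels (gp nets) R := rels_of_relsB (k := 6) nets_ok (by norm_num) (by decide +kernel)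

theorem nets_iv : IvOK (gp nets) iv := ivOK_of_ivB (k := 6) nets_ok (by norm_num) (by decide +kernel)

noncomputable def slp : List (ℕ × List ℕ) := []

theorem slp_ok : slpB 64 6 nets slp L = true := by decide +kernel

theorem mem_all {x : ℕ} (h : x ∈ L ++ slp.map (·.1)) : gp nets x ∈ cl (gp nets) L :=
  cl_eq_of_slpB nets_ok (by norm_num) slp_ok ▸ mem_cl h

theorem lb : 51840 ≤ Nat.card (cl (gp nets) L) := by
  rw [← cl_eq_of_slpB nets_ok (by norm_num) slp_ok]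
  exact lb_of_chainB nets_ok (C := [([1,2,3,4,5],[6,4,2,1,3,5,2,4,1,6,2,3,4,2,1,5],0,0,27),
 ([1,2,3,4],[5,1,2,3,4,2,1,5],1,1,10),
 ([1,2,3],[4,2,1,3,2,4],11,11,8),
 ([1,2],[3,2,1],19,19,4),
 ([1],[2,1],13,13,3),
 ([],[1],14,14,2)]) (by decide +kernel)

end Cfsg.Lib.Comp.We6
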